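import Groth.Agent.TMul.GlobGen
import Groth.Agent.QC.IdealMod
import Groth.Agent.LocFree.Props

/-!
If `s_0, …, s_n` generate an invertible module `L`, the Koszul relations `s_i e_j - s_j e_i` generate
`K ⊗ L`, `K` the kernel of `O^{n+1} → L`.
-/

set_option autoImplicit false
set_option backward.isDefEq.respectTransparency false
set_option backward.isDefEq.respectTransparency.types false

universe u

open CategoryTheory CategoryTheory.Limits AlgebraicGeometry TopologicalSpace Opposite
open Groth.Agent.QC (res resO res_res res_smul resO_resO app_res)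

noncomputable section

namespace Groth.Agent.KoszulGG

open TMul

variable {X : Scheme.{u}} {L : X.Modules} {m : ℕ} (s : Fin m → (Coh.structureModule X ⟶ L))

local notation "fr" => (FlatMod.freeMod X m)

/-- The standard sections of the free module. -/
def E (j : Fin m) (W : X.Opens) : Γ(fr, W) :=
  val (Sigma.ι (fun _ : Fin m => Coh.structureModule X) j) W

lemma app_E (j : Fin m) (W : X.Opens) :
    (Sigma.desc s : fr ⟶ L).app W (E j W) = val (s j) W := by
  rw [E, ← val_comp, Sigma.ι_desc]

/-- Coordinates of a section of the free module. -/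
def co (j : Fin m) (W : X.Opens) (z : Γ(fr, W)) : Γ(X, W) :=
  (Sigma.π (fun _ : Fin m => Coh.structureModule X) j).app W z

lemma eq_sum {W : X.Opens} (z : Γ(fr, W)) :
    z = ∑ j : Fin m, co j W z • E j W := by
  classical
  have h : (∑ j : Fin m, Sigma.π (fun _ : Fin m => Coh.structureModule X) j ≫
      Sigma.ι (fun _ : Fin m => Coh.structureModule X) j) = 𝟙 (fr) := by
    refine Sigma.hom_ext _ _ fun i => ?_
    rw [Preadditive.comp_sum, Finset.sum_eq_single i, ← Category.assoc, Sigma.ι_π_eq_id, Category.id_comp,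
      Category.comp_id]
    · intro b _ hb
      rw [← Category.assoc, Sigma.ι_π_of_ne _ hb.symm, zero_comp]
    · intro hi
      exact absurd (Finset.mem_univ i) hi
  have h' : ∀ (S : Finset (Fin m)), (∑ j ∈ S, Sigma.π (fun _ : Fin m => Coh.structureModule X) j ≫
      Sigma.ι (fun _ : Fin m => Coh.structureModule X) j).app W z =
      ∑ j ∈ S, co j W z • E j W := by
    intro S
    induction S using Finset.induction_on with
    | empty => rw [Finset.sum_empty, Finset.sum_empty]; rfl
    | insert a S ha ih =>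
      rw [Finset.sum_insert ha, Finset.sum_insert ha, ← ih]
      exact congrArg₂ (· + ·) (app_eq_smul _ _) rfl
  exact (congrArg (fun φ : fr ⟶ fr => φ.app W z) h).symm.trans (h' Finset.univ)

abbrev Ker : X.Modules := kernel (Sigma.desc s : fr ⟶ L)

abbrev kι : Ker s ⟶ fr := kernel.ι (Sigma.desc s : fr ⟶ L)

/-- Gluing the local Koszul relations. -/
lemma exists_w (hL : PicF.IsInvertible L) (i j : Fin m) :
    ∃ w : Γ(CohB1.tensorMod (Ker s) L, ⊤),
      ∀ (U : X.Opens) (g : Γ(L, U)) (ci cj : Γ(X, U)) (a : Γ(Ker s, U)), IsGen g → val (s i) U = ci • g →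
        val (s j) U = cj • g → (kι s).app U a = ci • E j U - cj • E i U → res _ le_top w = tm a g := by
  choose U g hxU hg using fun x : X => exists_isGen hL x
  have hc : ∀ (x : X) (l : Fin m), ∃ c : Γ(X, U x), val (s l) (U x) = c • g x := fun x l => by
    obtain ⟨c, hc⟩ := (hg x (U x) le_rfl).2 (val (s l) (U x))
    exact ⟨c, by rw [← hc]; simp only [Groth.Agent.QC.res_self]⟩
  choose c hc using hc
  have hker : ∀ x : X, ∃ a : Γ(Ker s, U x), (kι s).app (U x) a = c x i • E j (U x) - c x j • E i (U x) :=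
    fun x => (Groth.Agent.QC.mem_range_kernel_app _ _ _).mpr (by
      rw [map_sub, TMul.app_smul, TMul.app_smul, app_E, app_E, hc, hc, smul_smul, smul_smul, mul_comm, sub_self])
  choose a ha using hker
  -- any two local relations agree
  have key : ∀ (W V V' : X.Opens) (h : W ≤ V) (h' : W ≤ V') (gV : Γ(L, V)) (gV' : Γ(L, V')) (ci cj : Γ(X, V))
      (di dj : Γ(X, V')) (b : Γ(Ker s, V)) (b' : Γ(Ker s, V')), IsGen gV → IsGen gV' →
      val (s i) V = ci • gV → val (s j) V = cj • gV → val (s i) V' = di • gV' → val (s j) V' = dj • gV' →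
      (kι s).app V b = ci • E j V - cj • E i V → (kι s).app V' b' = di • E j V' - dj • E i V' →
      res (CohB1.tensorMod (Ker s) L) h (tm b gV) = res (CohB1.tensorMod (Ker s) L) h' (tm b' gV') := by
    intro W V V' h h' gV gV' ci cj di dj b b' hgV hgV' e1 e2 e3 e4 e5 e6
    obtain ⟨t, ht⟩ := (hgV W h).2 (res L h' gV')
    dsimp only at ht
    have hE : ∀ (l : Fin m) (c : Γ(X, V)) (d : Γ(X, V')), val (s l) V = c • gV → val (s l) V' = d • gV' →
        resO X h c = resO X h' d * t := fun l c d h1 h2 => by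
      apply (hgV W h).1
      dsimp only
      rw [mul_smul, ht, ← res_smul, ← res_smul, ← h1, ← h2, res_val, res_val]
    have hb : res (Ker s) h b = t • res (Ker s) h' b' := by
      apply Groth.Agent.QC.app_injective_of_mono (kι s) W
      rw [TMul.app_smul, ← app_res, ← app_res, e5, e6]
      simp only [map_sub, res_smul, E, res_val, smul_sub, smul_smul]
      rw [hE i ci di e1 e3, hE j cj dj e2 e4, mul_comm t, mul_comm t]
    rw [res_tm, res_tm, hb, smul_tm, ← tm_smul, ht]
  obtain ⟨w, hw, -⟩ := TopCat.Sheaf.existsUnique_gluing' (Groth.Agent.QC.abSheaf (CohB1.tensorMod (Ker s) L)) U ⊤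
    (fun x => homOfLE le_top) (fun x _ => Opens.mem_iSup.mpr ⟨x, hxU x⟩) (fun x => tm (a x) (g x))
    (fun x y => key _ _ _ inf_le_left inf_le_right _ _ _ _ _ _ _ _ (hg x) (hg y) (hc x i) (hc x j) (hc y i) (hc y j)
      (ha x) (ha y))
  refine ⟨w, fun V gV ci cj b hgV e1 e2 e5 => Groth.Agent.QC.section_eq_of_locally fun x hx =>
    ⟨V ⊓ U x, inf_le_left, ⟨hx, hxU x⟩, ?_⟩⟩
  rw [res_res]
  have h2 : res (CohB1.tensorMod (Ker s) L) (le_top : U x ≤ ⊤) w = tm (a x) (g x) := hw x
  rw [← res_res (CohB1.tensorMod (Ker s) L) (inf_le_right : V ⊓ U x ≤ U x) le_top w, h2]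
  exact key _ _ _ inf_le_right inf_le_left _ _ _ _ _ _ _ _ (hg x) hgV (hc x i) (hc x j) e1 e2 (ha x) e5

theorem main' (hL : PicF.IsInvertible L) (hs : Epi (Sigma.desc s : fr ⟶ L)) :
    Curv2.IsGloballyGenerated (CohB1.tensorMod (Ker s) L) := by
  haveI : (Ker s).IsQuasicoherent :=
    Groth.Agent.QC.isQCoh_kernel (LocFree.isQCoh_freeMod X m) (isQCoh_of_isInvertible hL) _
  refine isGloballyGenerated_of_genOn (hG := isQCoh_tensor hL) fun x => ?_
  obtain ⟨U, g, hxU, hg⟩ := exists_isGen hL x
  obtain ⟨V, hVU, hxV, σ, hσ⟩ := exists_app_eq_of_epi (Sigma.desc s : fr ⟶ L) g hxU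
  obtain ⟨D, hD, hxD, hDV⟩ := exists_isAffineOpen_mem_and_subset hxV
  refine ⟨D, hD, hxD, ?_⟩
  have hDU : D ≤ U := (show D ≤ V from hDV).trans hVU
  let gD := res L hDU g
  have hgD : IsGen gD := hg.res hDU
  have hc : ∀ l : Fin m, ∃ c : Γ(X, D), val (s l) D = c • gD := fun l => by
    obtain ⟨c, hc⟩ := (hgD D le_rfl).2 (val (s l) D)
    exact ⟨c, by rw [← hc]; simp only [Groth.Agent.QC.res_self]⟩
  choose c hc using hc
  let b : Fin m → Γ(X, D) := fun l =>
    co l D (res fr (show D ≤ V from hDV) σ)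
  have hbc : ∑ l, b l * c l = 1 := by
    apply (hgD D le_rfl).1
    simp only [Groth.Agent.QC.res_self, one_smul, Finset.sum_smul, mul_smul, ← hc]
    have h := congrArg ((Sigma.desc s : fr ⟶ L).app D) (eq_sum (res fr (show D ≤ V from hDV) σ))
    rw [← app_res, hσ, res_res, map_sum] at h
    refine Eq.trans ?_ h.symm
    exact Finset.sum_congr rfl fun l _ => by rw [TMul.app_smul, app_E]
  have hker : ∀ i j : Fin m, ∃ a : Γ(Ker s, D), (kι s).app D a = c i • E j D - c j • E i D :=
    fun i j => (Groth.Agent.QC.mem_range_kernel_app _ _ _).mpr (by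
      rw [map_sub, TMul.app_smul, TMul.app_smul, app_E, app_E, hc, hc, smul_smul, smul_smul, mul_comm, sub_self])
  choose a ha using hker
  refine eq_top_iff.mpr fun y _ => ?_
  obtain ⟨k, rfl⟩ := (tm_bijective (M := Ker s) hg D hDU).2 y
  let α : Fin m → Γ(X, D) := fun l =>
    co l D ((kι s).app D k)
  have hk0 : (kι s).app D k = ∑ l, α l • E l D := eq_sum _
  have hαc : ∑ l, α l * c l = 0 := by
    apply (hgD D le_rfl).1
    simp only [Groth.Agent.QC.res_self, zero_smul, Finset.sum_smul, mul_smul, ← hc]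
    have h : (Sigma.desc s : fr ⟶ L).app D ((kι s).app D k) = 0 :=
      (Groth.Agent.QC.mem_range_kernel_app _ _ _).mp ⟨k, rfl⟩
    rw [hk0, map_sum] at h
    refine Eq.trans ?_ h
    exact Finset.sum_congr rfl fun l _ => by rw [TMul.app_smul, app_E]
  have hk : k = ∑ i, ∑ l, (b i * α l) • a i l := by
    apply Groth.Agent.QC.app_injective_of_mono (kι s) D
    rw [map_sum]
    simp only [map_sum, TMul.app_smul, ha, smul_sub, smul_smul, Finset.sum_sub_distrib]
    have h1 : ∑ i, ∑ l, (b i * α l * c i) • E l D = (kι s).app D k := by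
      rw [hk0, Finset.sum_comm]
      refine Finset.sum_congr rfl fun l _ => ?_
      rw [← Finset.sum_smul]
      congr 1
      rw [Finset.sum_congr rfl fun i _ => (by ring : b i * α l * c i = α l * (b i * c i)), ← Finset.mul_sum,
        hbc, mul_one]
    have h2 : ∑ i, ∑ l, (b i * α l * c l) • E (m := m) i D = 0 := by
      refine Finset.sum_eq_zero fun i _ => ?_
      rw [← Finset.sum_smul, Finset.sum_congr rfl fun l _ => mul_assoc (b i) (α l) (c l), ← Finset.mul_sum, hαc,
        mul_zero, zero_smul]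
    rw [h1, h2, sub_zero]
  show tm k (res L hDU g) ∈ _
  change tm k gD ∈ _
  have hlin : ∀ (S : Finset (Fin m)) (q : Fin m → Γ(Ker s, D)), tm (∑ l ∈ S, q l) gD = ∑ l ∈ S, tm (q l) gD :=
    fun S q => by
      classical
      induction S using Finset.induction_on with
      | empty => rw [Finset.sum_empty, Finset.sum_empty, zero_tm]
      | insert a S ha ih => rw [Finset.sum_insert ha, Finset.sum_insert ha, tm_add, ih]
  rw [hk, hlin]
  refine Submodule.sum_mem _ fun i _ => ?_
  rw [hlin]
  refine Submodule.sum_mem _ fun l _ => ?_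
  rw [smul_tm]
  obtain ⟨w, hw⟩ := exists_w s hL i l
  exact Submodule.smul_mem _ _ (Submodule.subset_span ⟨w, hw D gD (c i) (c l) (a i l) hgD (hc i) (hc l) (ha i l)⟩)

theorem main (hL : PicF.IsInvertible L) (n : ℕ) (s : Fin (n + 1) → (Coh.structureModule X ⟶ L))
    (hs : Epi (Sigma.desc s : FlatMod.freeMod X (n + 1) ⟶ L)) :
    Curv2.IsGloballyGenerated (CohB1.tensorMod (kernel (Sigma.desc s : FlatMod.freeMod X (n + 1) ⟶ L)) L) :=
  main' s hL hs

end Groth.Agent.KoszulGG
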